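import Groth.Agent.InvThLib.GoingDownFin
import Groth.Agent.LinRed.InvariantRing
import Groth.Agent.Depth.CM

/-!
# Serre's conditions for invariant rings of linearly reductive finite group schemes
-/

set_option autoImplicit false
universe u v w

open TensorProduct RingTheory.Sequence Pointwise

namespace Groth.Agent.InvThLib

open LocCoh Groth.Agent.Depth

theorem isWeaklyRegular_of_retract {S : Type u} [CommRing S] :
    ∀ (rs : List S) (M N : Type w) [AddCommGroup M] [Module S M] [AddCommGroup N] [Module S N]
      (i : M →ₗ[S] N) (π : N →ₗ[S] M), (∀ x, π (i x) = x) → IsWeaklyRegular N rs → IsWeaklyRegular M rs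
  | [], M, N, _, _, _, _, i, π, _, _ => IsWeaklyRegular.nil S M
  | r :: rs, M, N, _, _, _, _, i, π, h, hN => by
    rw [isWeaklyRegular_cons_iff] at hN ⊢
    refine ⟨fun x y hxy => ?_, isWeaklyRegular_of_retract rs _ _ (QuotSMulTop.map r i) (QuotSMulTop.map r π)
      ?_ hN.2⟩
    · have h2 : i x = i y := hN.1 (show r • i x = r • i y by rw [← map_smul, ← map_smul]; exact congrArg i hxy)
      rw [← h x, h2, h y]
    · intro x
      obtain ⟨x, rfl⟩ := Submodule.Quotient.mk_surjective _ x
      exact congrArg Submodule.Quotient.mk (h x)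

theorem idealDepth_le_of_retract {S : Type u} [CommRing S] (I : Ideal S) {M N : Type w}
    [AddCommGroup M] [Module S M] [AddCommGroup N] [Module S N]
    (i : M →ₗ[S] N) (π : N →ₗ[S] M) (h : ∀ x, π (i x) = x) : idealDepth I N ≤ idealDepth I M := by
  by_cases hM : I • (⊤ : Submodule S M) = ⊤
  · rw [idealDepth_eq_top hM]; exact le_top
  have hN : I • (⊤ : Submodule S N) ≠ ⊤ := by
    intro hN
    refine hM (eq_top_iff.2 ?_)
    rw [← LinearMap.range_eq_top.2 (fun x => ⟨i x, h x⟩ : Function.Surjective π), LinearMap.range_eq_map]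
    conv_lhs => rw [← hN, Submodule.map_smul'']
  refine le_of_forall_imp fun n hn => ?_
  obtain ⟨rs, hl, hm, hw⟩ := (le_idealDepth_iff_exists hN).mp hn
  exact hl ▸ le_idealDepth_of_isWeaklyRegular (isWeaklyRegular_of_retract rs M N i π h hw) hm

variable (k : Type u) [Field k] (H : Type u) [CommRing H] [HopfAlgebra k H] [Module.Finite k H]
variable (R : Type u) [CommRing R] [Algebra k R] [Algebra.FiniteType k R] [HopfRep.Comod k H R]
  [GLin.IsCoactAlg k H R]

set_option quotPrecheck false in
local notation "B" => ↥(GLin.invariants k H R)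

theorem exists_retraction (hG : HopfRep.IsLinearlyReductive k H) :
    ∃ π : R →ₗ[B] B, ∀ x : B, π (algebraMap B R x) = x := by
  obtain ⟨α, hα⟩ := LinRed.exists_isNormIntegral hG
  refine ⟨{ toFun := fun x => ⟨Comod.actL α x, LinRed.actL_mem_fixedPts hα x⟩
            map_add' := fun x y => Subtype.ext (map_add _ x y)
            map_smul' := fun c x => Subtype.ext (LinRed.actL_mul_invariant α c.2 x) }, fun x => ?_⟩
  exact Subtype.ext (LinRed.actL_eq_self hα x.2)

/-- `(S_r)` on `R` bounds the depth of `R` along a prime of the invariants from below -/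
theorem min_le_idealDepth (r : ℕ) (hR : HasSk r R R) (p : Ideal B) [p.IsPrime] :
    min (r : WithBot ℕ∞) (p.height : WithBot ℕ∞) ≤ ((idealDepth p R : ℕ∞) : WithBot ℕ∞) := by
  haveI := (FinInv.finiteType_and_finite (k := k) (A := H) R).2
  haveI : IsNoetherianRing R := Algebra.FiniteType.isNoetherianRing k R
  rw [show (r : WithBot ℕ∞) = (((r : ℕ) : ℕ∞) : WithBot ℕ∞) from rfl, ← WithBot.coe_min, WithBot.coe_le_coe,
    ← idealDepth_map_eq (S := R), idealDepth_eq_iInf R]
  refine le_iInf₂ fun q hq => ?_
  have h := hR q.asIdeal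
  rw [supportDim_localizedSelf, show (r : WithBot ℕ∞) = (((r : ℕ) : ℕ∞) : WithBot ℕ∞) from rfl,
    ← WithBot.coe_min, WithBot.coe_le_coe] at h
  refine le_trans (min_le_min le_rfl ?_) h
  rw [← height_comap_eq k H R q.asIdeal]
  exact Ideal.height_mono (Ideal.map_le_iff_le_comap.1 hq)

theorem hasSk_invariants (hG : HopfRep.IsLinearlyReductive k H) (r : ℕ) (hR : HasSk r R R) :
    HasSk r B R ∧ HasSk r B B := by
  haveI := (FinInv.finiteType_and_finite (k := k) (A := H) R).2
  haveI := (FinInv.finiteType_and_finite (k := k) (A := H) R).1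
  haveI : IsNoetherianRing B := Algebra.FiniteType.isNoetherianRing k _
  obtain ⟨π, hπ⟩ := exists_retraction k H R hG
  constructor
  · intro p hp
    refine le_trans (min_le_min le_rfl ?_) ((min_le_idealDepth k H R r hR p).trans
      (WithBot.coe_le_coe.2 (idealDepth_le_depth_atPrime p le_rfl)))
    exact (Module.supportDim_le_ringKrullDim _ _).trans_eq
      (IsLocalization.AtPrime.ringKrullDim_eq_height p _)
  · intro p hp
    rw [supportDim_localizedSelf]
    exact (min_le_idealDepth k H R r hR p).trans (WithBot.coe_le_coe.2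
      ((idealDepth_le_of_retract p (Algebra.linearMap B R) π hπ).trans
        (idealDepth_le_depth_atPrime p le_rfl)))

theorem hasSk_of_isCohenMacaulayRing (S : Type u) [CommRing S] [IsCohenMacaulayRing S] (r : ℕ) :
    HasSk r S S := by
  intro p hp
  have hcm := IsCohenMacaulayRing.isCohenMacaulayLocalRing_localization (R := S) p
  have h : ringKrullDim (Localization.AtPrime p) = _ := Depth.ringKrullDim_eq_depth (R := Localization.AtPrime p)
  rw [IsLocalization.AtPrime.ringKrullDim_eq_height p] at h
  rw [supportDim_localizedSelf, depth_congr (localizedSelfEquiv p.primeCompl), ← h]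
  exact min_le_right _ _

theorem cohenMacaulay_invariants (hG : HopfRep.IsLinearlyReductive k H) (hR : IsCohenMacaulayRing R) :
    IsCohenMacaulayRing B ∧ ∀ (p : Ideal B) [p.IsPrime],
      IsCohenMacaulayModule (Localization.AtPrime p) (LocalizedModule p.primeCompl R) ∧
        Module.supportDim (Localization.AtPrime p) (LocalizedModule p.primeCompl R) =
          ringKrullDim (Localization.AtPrime p) := by
  haveI := (FinInv.finiteType_and_finite (k := k) (A := H) R).2
  haveI := (FinInv.finiteType_and_finite (k := k) (A := H) R).1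
  haveI : IsNoetherianRing B := Algebra.FiniteType.isNoetherianRing k _
  obtain ⟨π, hπ⟩ := exists_retraction k H R hG
  have hd : ∀ (p : Ideal B) [p.IsPrime], (p.height : WithBot ℕ∞) ≤
      ((idealDepth p R : ℕ∞) : WithBot ℕ∞) := by
    intro p hp
    obtain ⟨n, hn⟩ := ENat.ne_top_iff_exists.mp (Ideal.height_ne_top (I := p) hp.ne_top)
    have h := min_le_idealDepth k H R n (hasSk_of_isCohenMacaulayRing R n) p
    rw [← hn] at h ⊢
    exact le_trans (le_min le_rfl le_rfl) h
  refine ⟨{ isCohenMacaulayLocalRing_localization := fun p hp => ?_ }, fun p hp => ?_⟩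
  · haveI : IsNoetherianRing (Localization.AtPrime p) :=
      IsLocalization.isNoetherianRing p.primeCompl _ inferInstance
    rw [Depth.isCohenMacaulayLocalRing_iff]
    refine le_antisymm ?_ Depth.depth_le_ringKrullDim
    rw [IsLocalization.AtPrime.ringKrullDim_eq_height p, ← depth_congr (localizedSelfEquiv p.primeCompl)]
    exact (hd p).trans (WithBot.coe_le_coe.2 ((idealDepth_le_of_retract p (Algebra.linearMap B R) π hπ).trans
      (idealDepth_le_depth_atPrime p le_rfl)))
  · haveI : IsNoetherianRing (Localization.AtPrime p) :=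
      IsLocalization.isNoetherianRing p.primeCompl _ inferInstance
    have hinj : Function.Injective (LocalizedModule.map p.primeCompl (Algebra.linearMap B R)) :=
      LocalizedModule.map_injective p.primeCompl _ Subtype.val_injective
    have hsupp : Module.supportDim (Localization.AtPrime p) (LocalizedModule p.primeCompl R) =
        ringKrullDim (Localization.AtPrime p) := by
      refine le_antisymm (Module.supportDim_le_ringKrullDim _ _) ?_
      refine le_trans ?_ (Module.supportDim_le_of_injective _ hinj)
      rw [supportDim_localizedSelf, IsLocalization.AtPrime.ringKrullDim_eq_height p]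
    refine ⟨?_, hsupp⟩
    haveI : Nontrivial (LocalizedModule p.primeCompl R) := hinj.nontrivial
    refine le_antisymm ?_ Depth.depth_le_supportDim
    rw [hsupp, IsLocalization.AtPrime.ringKrullDim_eq_height p]
    exact (hd p).trans (WithBot.coe_le_coe.2 (idealDepth_le_depth_atPrime p le_rfl))

end Groth.Agent.InvThLib
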