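import Groth.Agent.FinInv.Basic
import Mathlib.RingTheory.Ideal.GoingDown
import Mathlib.RingTheory.Ideal.GoingUp
import Mathlib.RingTheory.Ideal.Height
import Mathlib.RingTheory.Artinian.Module
import Mathlib.RingTheory.Norm.Basic
import Mathlib.RingTheory.Flat.Basic
import Mathlib.RingTheory.LocalRing.ResidueField.Ideal

/-!
# Primes over the invariant ring of a finite group scheme: orbits, going down, heights
-/

set_option autoImplicit false
universe u v w

open TensorProduct

namespace Groth.Agent.InvThLib

variable (k : Type u) [Field k] (H : Type v) [CommRing H] [HopfAlgebra k H] [Module.Finite k H]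
variable (R : Type w) [CommRing R] [Algebra k R] [HopfRep.Comod k H R] [GLin.IsCoactAlg k H R]

/-- the counit retraction `R ⊗ H → R` -/
noncomputable def counitR : R ⊗[k] H →ₐ[R] R :=
  Algebra.TensorProduct.lift (AlgHom.id R R) ((Algebra.ofId k R).comp (Bialgebra.counitAlgHom k H))
    fun _ _ => Commute.all _ _

theorem counitR_coact (r : R) : counitR k H R (GLin.coactAlgHom k H R r) = r := by
  have h2 : ∀ z : R ⊗[k] H, counitR k H R z =
      TensorProduct.rid k R ((Coalgebra.counit (R := k) (A := H)).lTensor R z) := by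
    intro z
    induction z with
    | zero => simp
    | tmul p q => simp [counitR, Algebra.smul_def, mul_comm]
    | add y z hy hz => simp only [map_add, hy, hz]
  rw [h2]
  have h3 := LinearMap.congr_fun (HopfRep.Comod.counit_comp (k := k) (A := H) (V := R)) r
  simp only [LinearMap.comp_apply, LinearMap.flip_apply, TensorProduct.mk_apply] at h3
  show TensorProduct.rid k R ((Coalgebra.counit (R := k) (A := H)).lTensor R (HopfRep.Comod.coact r)) = r
  rw [h3]; simp

set_option maxHeartbeats 1000000 in
theorem norm_coact_mem (r : R) :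
    Algebra.norm R (GLin.coactAlgHom k H R r) ∈ GLin.invariants k H R := by
  classical
  let b := Module.finBasis k H
  let ρ := GLin.coactAlgHom k H R
  obtain ⟨Θ, hΘ⟩ := FinInv.exists_shear (k := k) (A := H) (R := R)
  have hx : Algebra.TensorProduct.map ρ (AlgHom.id k H) (ρ r) =
      Θ (Algebra.TensorProduct.map (Algebra.TensorProduct.includeLeft : R →ₐ[k] R ⊗[k] H) (AlgHom.id k H) (ρ r)) := by
    have hco := LinearMap.congr_fun (HopfRep.Comod.coassoc (k := k) (A := H) (V := R)) r
    simp only [LinearMap.comp_apply, LinearEquiv.coe_coe] at hco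
    apply (TensorProduct.assoc k R H H).injective
    have el : Algebra.TensorProduct.map ρ (AlgHom.id k H) (ρ r) =
        (HopfRep.Comod.coact (k := k) (A := H)).rTensor H (HopfRep.Comod.coact (k := k) (A := H) r) := by
      show _ = (HopfRep.Comod.coact (k := k) (A := H)).rTensor H (ρ r)
      generalize ρ r = z
      induction z with
      | zero => simp
      | tmul p q => simp [ρ]
      | add y z hy hz => simp only [map_add, hy, hz]
    rw [el, hco]
    show _ = TensorProduct.assoc k R H H (Θ (Algebra.TensorProduct.map _ _ (ρ r)))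
    rw [show HopfRep.Comod.coact (k := k) (A := H) r = ρ r from rfl]
    generalize ρ r = z
    induction z with
    | zero => simp
    | tmul p q => simp [hΘ]
    | add y z hy hz => simp only [map_add, hy, hz]
  show ρ (Algebra.norm R (ρ r)) = (Algebra.TensorProduct.includeLeft : R →ₐ[k] R ⊗[k] H) _
  have hg : ∀ g : R →ₐ[k] R ⊗[k] H, g (Algebra.norm R (ρ r)) =
      Algebra.norm (R ⊗[k] H) (Algebra.TensorProduct.map g (AlgHom.id k H) (ρ r)) := by
    intro g
    rw [Algebra.norm_eq_matrix_det (Algebra.TensorProduct.basis R b),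
      Algebra.norm_eq_matrix_det (Algebra.TensorProduct.basis (R ⊗[k] H) b)]
    rw [AlgHom.map_det]
    exact congrArg Matrix.det (FinInv.mat_map b g (ρ r))
  rw [hg ρ, hg, hx, Algebra.norm_eq_of_algEquiv]

theorem exists_mul_eq_norm (r : R) : ∃ y : R, Algebra.norm R (GLin.coactAlgHom k H R r) = r * y := by
  classical
  let b := Module.finBasis k H
  let z := GLin.coactAlgHom k H R r
  let M := Algebra.leftMulMatrix (Algebra.TensorProduct.basis R b) z
  -- `z` divides its norm by Cayley-Hamilton
  have h : ∃ w : R ⊗[k] H, algebraMap R (R ⊗[k] H) (Algebra.norm R z) = z * w := by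
    have h0 : Polynomial.aeval z M.charpoly = 0 := by
      have h := Matrix.aeval_self_charpoly M
      rw [Polynomial.aeval_algHom_apply] at h
      exact Algebra.leftMulMatrix_injective _ (h.trans (map_zero _).symm)
    obtain ⟨q, hq⟩ : ∃ q, M.charpoly = Polynomial.X * q + Polynomial.C (M.charpoly.coeff 0) :=
      ⟨M.charpoly.divX, (Polynomial.X_mul_divX_add _).symm⟩
    rw [hq, map_add, map_mul, Polynomial.aeval_X, Polynomial.aeval_C] at h0
    refine ⟨-((-1) ^ Fintype.card (Fin (Module.finrank k H)) * Polynomial.aeval z q), ?_⟩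
    rw [Algebra.norm_eq_matrix_det (Algebra.TensorProduct.basis R b), Matrix.det_eq_sign_charpoly_coeff,
      map_mul, map_pow, map_neg, map_one, eq_neg_of_add_eq_zero_right h0]
    ring
  obtain ⟨w, hw⟩ := h
  refine ⟨counitR k H R w, ?_⟩
  have h' := congrArg (counitR k H R) hw
  rw [AlgHom.commutes, map_mul, counitR_coact] at h'
  exact h'

/-- two primes of `R` with the same trace on the invariants lie in one orbit -/
theorem exists_prime_comap_eq (q q' : Ideal R) [q.IsPrime] [q'.IsPrime]
    (h : q.comap (algebraMap ↥(GLin.invariants k H R) R) = q'.comap (algebraMap ↥(GLin.invariants k H R) R)) :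
    ∃ Q : Ideal (R ⊗[k] H), Q.IsPrime ∧
      Q.comap (algebraMap R (R ⊗[k] H)) = q ∧
      Q.comap (GLin.coactAlgHom k H R).toRingHom = q' := by
  classical
  haveI := FinInv.isIntegral_invariants (k := k) (A := H) R
  let ρ := GLin.coactAlgHom k H R
  let K := q.ResidueField
  let π : R →ₐ[k] K := (IsScalarTower.toAlgHom k R K)
  let g : R ⊗[k] H →ₐ[k] K ⊗[k] H := Algebra.TensorProduct.map π (AlgHom.id k H)
  haveI : Module.Finite K (K ⊗[k] H) := Module.Finite.base_change k K H
  haveI : IsArtinianRing (K ⊗[k] H) := IsArtinianRing.of_finite K _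
  have hfin : (Set.univ : Set (MaximalSpectrum (K ⊗[k] H))).Finite := Set.finite_univ
  have hsub : (q' : Set R) ⊆ ⋃ m ∈ hfin.toFinset, ((m.asIdeal.comap g.toRingHom).comap ρ.toRingHom : Set R) := by
    intro x hx
    have hc : Algebra.norm R (ρ x) ∈ q := by
      obtain ⟨y, hy⟩ := exists_mul_eq_norm k H R x
      have h1 : (⟨_, norm_coact_mem k H R x⟩ : ↥(GLin.invariants k H R)) ∈
          q'.comap (algebraMap ↥(GLin.invariants k H R) R) := by
        show Algebra.norm R (ρ x) ∈ q'
        rw [show Algebra.norm R (ρ x) = x * y from hy]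
        exact q'.mul_mem_right _ hx
      rw [← h] at h1
      exact h1
    have hnu : ¬ IsUnit (g (ρ x)) := by
      intro hu
      have h2 := hu.map (Algebra.norm K)
      have h3 : Algebra.norm K (g (ρ x)) = π (Algebra.norm R (ρ x)) := by
        rw [Algebra.norm_eq_matrix_det (Algebra.TensorProduct.basis R (Module.finBasis k H)),
          Algebra.norm_eq_matrix_det (Algebra.TensorProduct.basis K (Module.finBasis k H)), AlgHom.map_det]
        exact (congrArg Matrix.det (FinInv.mat_map (Module.finBasis k H) π (ρ x))).symm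
      rw [h3] at h2
      exact h2.ne_zero (Ideal.algebraMap_residueField_eq_zero.2 hc)
    obtain ⟨m, hm, hxm⟩ := exists_max_ideal_of_mem_nonunits hnu
    exact Set.mem_biUnion (x := (⟨m, hm⟩ : MaximalSpectrum (K ⊗[k] H))) (by simp) hxm
  rcases isEmpty_or_nonempty (MaximalSpectrum (K ⊗[k] H)) with hempty | ⟨⟨a⟩⟩
  · exact absurd (hsub q'.zero_mem) (by simp)
  obtain ⟨m, -, hm⟩ := (Ideal.subset_union_prime a a (fun i _ _ _ => inferInstance)).1 hsub
  haveI := m.isMaximal
  refine ⟨m.asIdeal.comap g.toRingHom, inferInstance, ?_, ?_⟩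
  · have h1 : ((m.asIdeal.comap g.toRingHom).comap (algebraMap R (R ⊗[k] H))) =
        (m.asIdeal.comap (algebraMap K (K ⊗[k] H))).comap (algebraMap R K) := by
      ext x
      simp [g, π, Algebra.TensorProduct.algebraMap_apply]
    have h2 : m.asIdeal.comap (algebraMap K (K ⊗[k] H)) = ⊥ :=
      (Ideal.eq_bot_or_top _).resolve_right (Ideal.IsPrime.ne_top inferInstance)
    rw [h1, h2]
    ext x
    simp [Ideal.algebraMap_residueField_eq_zero, K]
  · by_contra hne
    obtain ⟨x, hx, hx'⟩ := Set.exists_of_ssubset
      (show (q' : Set R) ⊂ ((m.asIdeal.comap g.toRingHom).comap ρ.toRingHom : Set R) from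
        lt_of_le_of_ne hm fun e => hne (SetLike.coe_injective e).symm)
    have hlt := Ideal.comap_lt_comap_of_integral_mem_sdiff
      (R := ↥(GLin.invariants k H R)) hm ⟨hx, hx'⟩ (Algebra.IsIntegral.isIntegral x)
    refine hlt.ne ?_
    rw [← h]
    have h1 : ∀ a : ↥(GLin.invariants k H R), ρ (a : R) = algebraMap R (R ⊗[k] H) (a : R) := fun a => a.2
    ext a
    have h2 : g (ρ (a : R)) = algebraMap K (K ⊗[k] H) (algebraMap R K (a : R)) := by
      rw [h1]; simp [g, π, Algebra.TensorProduct.algebraMap_apply]
    simp only [Ideal.mem_comap, AlgHom.toRingHom_eq_coe, RingHom.coe_coe]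
    rw [show (algebraMap (↥(GLin.invariants k H R)) R a) = (a : R) from rfl, h2]
    constructor
    · intro ha
      rw [(Ideal.algebraMap_residueField_eq_zero (I := q)).2 ha, map_zero]
      exact Ideal.zero_mem _
    · intro ha
      by_contra hna
      have hu : IsUnit (algebraMap R K (a : R)) :=
        isUnit_iff_ne_zero.2 fun e => hna (Ideal.algebraMap_residueField_eq_zero.1 e)
      exact (Ideal.IsPrime.ne_top (I := m.asIdeal) inferInstance)
        (Ideal.eq_top_of_isUnit_mem _ ha (hu.map _))

theorem hasGoingDown : Algebra.HasGoingDown ↥(GLin.invariants k H R) R where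
  exists_ideal_le_liesOver_of_lt {p} _ q hq hlt := by
    haveI := FinInv.isIntegral_invariants (k := k) (A := H) R
    obtain ⟨q₁, -, hq₁, hq₁p⟩ := Ideal.exists_ideal_over_prime_of_isIntegral p (⊥ : Ideal R)
      (by
        intro x hx
        have : x = 0 := Subtype.ext (by simpa using hx)
        rw [this]; exact p.zero_mem)
    obtain ⟨q₂, hle, hq₂, hq₂p⟩ := Ideal.exists_ideal_over_prime_of_isIntegral_of_isPrime
      (q.comap (algebraMap ↥(GLin.invariants k H R) R)) q₁ (hq₁p.trans_le hlt.le)
    obtain ⟨Q₂, hQ₂, e1, e2⟩ := exists_prime_comap_eq k H R q₂ q hq₂p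
    haveI : Q₂.LiesOver q₂ := ⟨e1.symm⟩
    obtain ⟨Q₁, hle', hQ₁, hQ₁l⟩ := Ideal.exists_ideal_le_liesOver_of_le (R := R) (p := q₁) Q₂ hle
    refine ⟨Q₁.comap (GLin.coactAlgHom k H R).toRingHom, e2 ▸ Ideal.comap_mono hle', inferInstance, ⟨?_⟩⟩
    rw [← hq₁p, Q₁.over_def q₁]
    ext a
    simp only [Ideal.mem_comap, Ideal.under_def, AlgHom.toRingHom_eq_coe, RingHom.coe_coe]
    rw [show GLin.coactAlgHom k H R (algebraMap _ R a) = algebraMap R (R ⊗[k] H) (algebraMap _ R a) from a.2]

open Order in
/-- heights are preserved by contraction to the invariants -/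
theorem height_comap_eq (q : Ideal R) [q.IsPrime] :
    (q.comap (algebraMap ↥(GLin.invariants k H R) R)).height = q.height := by
  haveI := FinInv.isIntegral_invariants (k := k) (A := H) R
  haveI := hasGoingDown k H R
  let f := PrimeSpectrum.comap (algebraMap ↥(GLin.invariants k H R) R)
  let x : PrimeSpectrum R := ⟨q, inferInstance⟩
  rw [show q.height = height x from x.height_eq_orderHeight,
    show (q.comap (algebraMap ↥(GLin.invariants k H R) R)).height = height (f x) from
      (f x).height_eq_orderHeight]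
  refine le_antisymm ?_ (Order.height_le_height_apply_of_strictMono f ?_ x)
  · refine Order.height_le fun l hl => ?_
    haveI : q.LiesOver l.last.asIdeal := ⟨by rw [hl]; rfl⟩
    obtain ⟨L, hL, hLl, -⟩ := Ideal.exists_ltSeries_of_hasGoingDown l q
    rw [← hL]
    exact Order.length_le_height hLl.le
  · intro a b hab
    obtain ⟨y, hy, hy'⟩ := SetLike.exists_of_lt (show a.asIdeal < b.asIdeal from hab)
    exact Ideal.comap_lt_comap_of_integral_mem_sdiff hab.le ⟨hy, hy'⟩ (Algebra.IsIntegral.isIntegral y)

end Groth.Agent.InvThLib
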