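import Groth.Agent.S12936
import Mathlib

/-!
# The residue field of the inertia ring is the separable closure
-/

set_option autoImplicit false
universe u v

open Polynomial

namespace Groth.Agent.InvThLib.Inertia

variable {B : Type u} [CommRing B] {G : Type v} [Group G] [MulSemiringAction G B]

/-- polynomials with invariant coefficients that are separable modulo `P` with root `x` modulo `P` -/
def HasSepPoly (G : Type v) [Group G] [MulSemiringAction G B] (P : Ideal B) (x : B) : Prop :=
  ∃ g : Polynomial B, (∀ (i : ℕ) (γ : G), γ • g.coeff i = g.coeff i) ∧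
    (g.map (Ideal.Quotient.mk P)).Separable ∧ Polynomial.aeval x g ∈ P

theorem hasSepPoly_iff [Finite G] (P : Ideal B) [P.IsMaximal] (x : B)
    [hp : (P.under (FixedPoints.subring B G)).IsMaximal] :
    letI := Ideal.Quotient.field (P.under (FixedPoints.subring B G))
    letI := Ideal.Quotient.field P
    HasSepPoly G P x ↔ IsSeparable (FixedPoints.subring B G ⧸ P.under (FixedPoints.subring B G))
      (Ideal.Quotient.mk P x) := by
  letI := Ideal.Quotient.field (P.under (FixedPoints.subring B G))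
  letI := Ideal.Quotient.field P
  let p := P.under (FixedPoints.subring B G)
  have hcomm : (algebraMap (FixedPoints.subring B G ⧸ p) (B ⧸ P)).comp (Ideal.Quotient.mk p) =
      (Ideal.Quotient.mk P).comp (algebraMap (FixedPoints.subring B G) B) := RingHom.ext fun a => rfl
  constructor
  · rintro ⟨g, hg, hsep, hroot⟩
    obtain ⟨q, rfl⟩ : ∃ q : Polynomial (FixedPoints.subring B G), q.map (algebraMap _ B) = g := by
      exact (Polynomial.mem_lifts _).1 ((Polynomial.lifts_iff_coeff_lifts _).2 fun n =>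
        ⟨⟨g.coeff n, fun γ => hg n γ⟩, rfl⟩)
    rw [Polynomial.map_map, ← hcomm, ← Polynomial.map_map, separable_map] at hsep
    refine Separable.of_dvd hsep (minpoly.dvd _ _ ?_)
    rw [aeval_def, eval₂_map, hcomm, ← eval₂_map, eval₂_at_apply, ← coe_aeval_eq_eval]
    exact Ideal.Quotient.eq_zero_iff_mem.2 hroot
  · intro h
    obtain ⟨q, hq⟩ := Polynomial.map_surjective (Ideal.Quotient.mk p) Ideal.Quotient.mk_surjective
      (minpoly (FixedPoints.subring B G ⧸ p) (Ideal.Quotient.mk P x))
    refine ⟨q.map (algebraMap _ B), fun i γ => ?_, ?_, ?_⟩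
    · rw [coeff_map]
      exact (q.coeff i).2 γ
    · rw [Polynomial.map_map, ← hcomm, ← Polynomial.map_map, hq, separable_map]
      exact h
    · rw [← Ideal.Quotient.eq_zero_iff_mem, coe_aeval_eq_eval, ← eval₂_at_apply,
        eval₂_map, ← hcomm, ← eval₂_map, hq, ← aeval_def]
      exact minpoly.aeval _ _

/-- if the whole group is inert then separable elements come from invariants -/
theorem exists_fixed_of_hasSepPoly [Finite G] (P : Ideal B) [P.IsMaximal]
    (hG : ∀ (γ : G) (b : B), γ • b - b ∈ P) (x : B) (hx : HasSepPoly G P x) :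
    ∃ y : B, (∀ γ : G, γ • y = y) ∧ x - y ∈ P := by
  classical
  cases nonempty_fintype G
  letI := Ideal.Quotient.field P
  haveI : Algebra.IsInvariant (FixedPoints.subring B G) B G := ⟨fun b hb => ⟨⟨b, hb⟩, rfl⟩⟩
  haveI : SMulCommClass G (FixedPoints.subring B G) B :=
    ⟨fun γ a b => by
      show γ • ((a : B) * b) = (a : B) * γ • b
      rw [smul_mul', a.2 γ]⟩
  haveI : Algebra.IsIntegral (FixedPoints.subring B G) B := Algebra.IsInvariant.isIntegral _ B G
  haveI hp : (P.under (FixedPoints.subring B G)).IsMaximal := Ideal.isMaximal_comap_of_isIntegral_of_isMaximal P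
  letI := Ideal.Quotient.field (P.under (FixedPoints.subring B G))
  let p := P.under (FixedPoints.subring B G)
  have hsep : IsSeparable (FixedPoints.subring B G ⧸ p) (Ideal.Quotient.mk P x) := (hasSepPoly_iff P x).1 hx
  -- the orbit polynomial
  let f : Polynomial B := ∏ γ : G, (X - C (γ • x))
  have hf : ∀ (i : ℕ) (γ : G), γ • f.coeff i = f.coeff i := by
    intro i γ
    have : f.map (MulSemiringAction.toRingHom G B γ) = f := by
      simp only [f, Polynomial.map_prod, Polynomial.map_sub, map_X, map_C]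
      refine Fintype.prod_equiv (Equiv.mulLeft γ) _ _ fun g => ?_
      simp [mul_smul]
    conv_rhs => rw [← this, coeff_map]
    rfl
  obtain ⟨q, hq⟩ : ∃ q : Polynomial (FixedPoints.subring B G), q.map (algebraMap _ B) = f := by
    exact (Polynomial.mem_lifts _).1 ((Polynomial.lifts_iff_coeff_lifts _).2 fun n =>
      ⟨⟨f.coeff n, fun γ => hf n γ⟩, rfl⟩)
  have hfL : f.map (Ideal.Quotient.mk P) = (X - C (Ideal.Quotient.mk P x)) ^ Fintype.card G := by
    simp only [f, Polynomial.map_prod, Polynomial.map_sub, map_X, map_C]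
    rw [show Fintype.card G = (Finset.univ : Finset G).card from rfl, ← Finset.prod_const]
    exact Finset.prod_congr rfl fun γ _ => by rw [Ideal.Quotient.eq.2 (hG γ x)]
  have hdvd : minpoly (FixedPoints.subring B G ⧸ p) (Ideal.Quotient.mk P x) ∣ q.map (Ideal.Quotient.mk p) := by
    refine minpoly.dvd _ _ ?_
    rw [aeval_def, ← eval_map, Polynomial.map_map]
    show eval _ (q.map ((Ideal.Quotient.mk P).comp (algebraMap (FixedPoints.subring B G) B))) = 0
    rw [← Polynomial.map_map, hq, hfL]
    simp [Fintype.card_ne_zero]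
  have hdvd' := Polynomial.map_dvd (algebraMap (FixedPoints.subring B G ⧸ p) (B ⧸ P)) hdvd
  rw [Polynomial.map_map (Ideal.Quotient.mk p)] at hdvd'
  replace hdvd' : (minpoly (FixedPoints.subring B G ⧸ p) (Ideal.Quotient.mk P x)).map
      (algebraMap _ (B ⧸ P)) ∣ (X - C (Ideal.Quotient.mk P x)) ^ Fintype.card G := by
    rw [← hfL, ← hq, Polynomial.map_map]
    exact hdvd'
  obtain ⟨i, -, hi⟩ := (dvd_prime_pow (prime_X_sub_C _) _).1 hdvd'
  have hmon := (minpoly.monic hsep.isIntegral).map (algebraMap (FixedPoints.subring B G ⧸ p) (B ⧸ P))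
  have heq := eq_of_monic_of_associated hmon ((monic_X_sub_C _).pow i) hi
  have hsepL := Separable.map (f := algebraMap (FixedPoints.subring B G ⧸ p) (B ⧸ P)) hsep
  rw [heq] at hsepL
  have hi0 : i ≠ 0 := by
    rintro rfl
    rw [pow_zero] at heq
    have := congrArg Polynomial.natDegree heq
    rw [natDegree_map, natDegree_one] at this
    exact (minpoly.natDegree_pos hsep.isIntegral).ne' this
  have hi1 : i = 1 := (hsepL.of_pow (not_isUnit_X_sub_C _) hi0).2
  subst hi1
  have hc := congrArg (fun r => r.coeff 0) heq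
  simp only [coeff_map, pow_one, coeff_sub, coeff_X_zero, zero_sub, coeff_C_zero] at hc
  obtain ⟨c, hc'⟩ := Ideal.Quotient.mk_surjective ((minpoly (FixedPoints.subring B G ⧸ p) (Ideal.Quotient.mk P x)).coeff 0)
  rw [← hc'] at hc
  refine ⟨-(c : B), fun γ => by rw [smul_neg, c.2 γ], ?_⟩
  rw [← Ideal.Quotient.eq_zero_iff_mem, map_sub, map_neg, show Ideal.Quotient.mk P (c : B) = _ from hc]
  simp

section Main

variable (Γ : Type v) [Group Γ] [Finite Γ] [MulSemiringAction Γ B]

theorem hasSepPoly_mono {P : Ideal B} (T : Subgroup Γ) {x : B} (h : HasSepPoly Γ P x) : HasSepPoly T P x := by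
  obtain ⟨g, hg, h1, h2⟩ := h
  exact ⟨g, fun i γ => hg i γ, h1, h2⟩

theorem hasSepPoly_of_orbit_injOn (P : Ideal B) [P.IsMaximal] (u : B)
    (hu : ∀ δ : Γ, (∀ y : B, y ∈ P ↔ δ • y ∈ P) → δ • u - u ∈ P → δ • u = u) :
    HasSepPoly Γ P u := by
  classical
  cases nonempty_fintype Γ
  letI := Ideal.Quotient.field P
  let D : Finset Γ := Finset.univ.filter fun δ => ∀ y : B, y ∈ P ↔ δ • y ∈ P
  let O : Finset B := D.image fun δ => δ • u
  have hD : ∀ {δ : Γ}, δ ∈ D ↔ ∀ y : B, y ∈ P ↔ δ • y ∈ P := fun {δ} => by simp [D]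
  let f : Polynomial B := ∏ v ∈ O, (X - C v)
  have hf : ∀ (i : ℕ) (δ : Γ), (∀ y : B, y ∈ P ↔ δ • y ∈ P) → δ • f.coeff i = f.coeff i := by
    intro i δ hδ
    have hO : O.image (fun v => δ • v) = O := by
      refine Finset.eq_of_subset_of_card_le ?_ (by rw [Finset.card_image_of_injective _ (MulAction.injective δ)])
      intro w hw
      simp only [O, Finset.image_image, Finset.mem_image, Function.comp_apply] at hw ⊢
      obtain ⟨e, he, rfl⟩ := hw
      exact ⟨δ * e, hD.2 fun y => by rw [mul_smul]; exact (hD.1 he y).trans (hδ _), mul_smul δ e u⟩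
    have : f.map (MulSemiringAction.toRingHom Γ B δ) = f := by
      simp only [f, Polynomial.map_prod, Polynomial.map_sub, map_X, map_C]
      conv_rhs => rw [← hO, Finset.prod_image fun a _ b _ h => MulAction.injective δ h]
      rfl
    conv_rhs => rw [← this, coeff_map]
    rfl
  choose c hc hc' using fun i => S12936.result B Γ P (f.coeff i) (fun γ h => hf i γ h)
  let g : Polynomial B := ∑ i ∈ Finset.range (f.natDegree + 1), monomial i (c i)
  have hgco : ∀ i, g.coeff i = if i ∈ Finset.range (f.natDegree + 1) then c i else 0 := fun i => by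
    simp [g, finsetSum_coeff, coeff_monomial]
  have hgf : g.map (Ideal.Quotient.mk P) = f.map (Ideal.Quotient.mk P) := by
    ext i
    rw [coeff_map, coeff_map, hgco]
    split_ifs with h
    · exact (Ideal.Quotient.eq.2 (hc' i)).symm
    · rw [coeff_eq_zero_of_natDegree_lt (by simpa [Nat.lt_succ_iff] using h : f.natDegree < i)]
  refine ⟨g, fun i γ => ?_, ?_, ?_⟩
  · rw [hgco]
    split_ifs with h
    · exact hc i γ
    · exact smul_zero γ
  · rw [hgf]
    simp only [f, Polynomial.map_prod, Polynomial.map_sub, map_X, map_C]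
    rw [separable_prod_X_sub_C_iff']
    intro v hv w hw hvw
    simp only [O, Finset.mem_image] at hv hw
    obtain ⟨a, ha, rfl⟩ := hv
    obtain ⟨b, hb, rfl⟩ := hw
    have hmem : (a⁻¹ * b) • u - u ∈ P := by
      rw [hD.1 ha, smul_sub, smul_smul, mul_inv_cancel_left]
      exact Ideal.Quotient.eq.1 hvw.symm
    have := hu (a⁻¹ * b) (fun y => by
      rw [hD.1 ha ((a⁻¹ * b) • y), smul_smul, mul_inv_cancel_left]; exact hD.1 hb y) hmem
    rw [mul_smul, inv_smul_eq_iff] at this
    exact this.symm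
  · rw [← Ideal.Quotient.eq_zero_iff_mem, coe_aeval_eq_eval, ← eval₂_at_apply,
      ← eval_map, hgf]
    simp only [f, Polynomial.map_prod, Polynomial.map_sub, map_X, map_C, eval_prod]
    exact Finset.prod_eq_zero (i := u) (Finset.mem_image.2 ⟨1, hD.2 (fun y => by rw [one_smul]), one_smul _ u⟩) (by simp)

theorem mem_decomp_of_inertia {P : Ideal B} {γ : Γ} (hγ : γ ∈ P.inertia Γ) (y : B) : y ∈ P ↔ γ • y ∈ P := by
  have h := AddSubgroup.mem_inertia.1 hγ y
  exact ⟨fun hy => by simpa using P.add_mem h hy, fun hy => by simpa using P.sub_mem hy h⟩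

theorem inertia_fixed_iff (P : Ideal B) [P.IsMaximal] (x : B) :
    (∃ y : B, (∀ γ : Γ, γ ∈ P.inertia Γ → γ • y = y) ∧ x - y ∈ P) ↔ HasSepPoly Γ P x := by
  classical
  have backward : ∀ z : B, HasSepPoly Γ P z →
      ∃ y : B, (∀ γ : Γ, γ ∈ P.inertia Γ → γ • y = y) ∧ z - y ∈ P := by
    intro z hz
    obtain ⟨y, hy, hy'⟩ := exists_fixed_of_hasSepPoly (G := P.inertia Γ) P
      (fun γ b => AddSubgroup.mem_inertia.1 γ.2 b) z (hasSepPoly_mono Γ _ hz)
    exact ⟨y, fun γ hγ => hy ⟨γ, hγ⟩, hy'⟩
  refine ⟨?_, backward x⟩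
  rintro ⟨y, hy, hxy⟩
  haveI : Algebra.IsInvariant (FixedPoints.subring B Γ) B Γ := ⟨fun b hb => ⟨⟨b, hb⟩, rfl⟩⟩
  haveI : SMulCommClass Γ (FixedPoints.subring B Γ) B :=
    ⟨fun γ a b => by
      show γ • ((a : B) * b) = (a : B) * γ • b
      rw [smul_mul', a.2 γ]⟩
  haveI : Algebra.IsIntegral (FixedPoints.subring B Γ) B := Algebra.IsInvariant.isIntegral _ B Γ
  let p := P.under (FixedPoints.subring B Γ)
  haveI hp : p.IsMaximal := Ideal.isMaximal_comap_of_isIntegral_of_isMaximal P
  letI := Ideal.Quotient.field p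
  letI := Ideal.Quotient.field P
  let K := FixedPoints.subring B Γ ⧸ p
  let L := B ⧸ P
  haveI : Algebra.IsIntegral K L := ⟨fun l => by
    obtain ⟨b, rfl⟩ := Ideal.Quotient.mk_surjective l
    obtain ⟨q, hqm, hq⟩ := Algebra.IsIntegral.isIntegral (R := FixedPoints.subring B Γ) b
    refine ⟨q.map (Ideal.Quotient.mk p), hqm.map _, ?_⟩
    rw [eval₂_map]
    show eval₂ ((Ideal.Quotient.mk P).comp (algebraMap (FixedPoints.subring B Γ) B)) (Ideal.Quotient.mk P b) q = 0
    rw [← hom_eval₂, hq, map_zero]⟩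
  suffices hsep : IsSeparable K (Ideal.Quotient.mk P y) by
    rw [← Ideal.Quotient.eq.2 hxy] at hsep
    exact (hasSepPoly_iff P x).2 hsep
  rcases finite_or_infinite K with hfin | hinf
  · haveI : Algebra.IsAlgebraic K L := Algebra.IsIntegral.isAlgebraic
    haveI : Algebra.IsSeparable K L := Algebra.IsAlgebraic.isSeparable_of_perfectField
    exact Algebra.IsSeparable.isSeparable K _
  -- the elements acting nontrivially on the residue field act nontrivially on a separable element
  have step : ∀ δ : Γ, (∀ b : B, b ∈ P ↔ δ • b ∈ P) → δ ∉ P.inertia Γ →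
      ∃ w : B, (∀ γ : Γ, γ ∈ P.inertia Γ → γ • w = w) ∧ IsSeparable K (Ideal.Quotient.mk P w) ∧
        δ • w - w ∉ P := by
    intro δ hδ hδT
    obtain ⟨b, hb⟩ : ∃ b : B, δ • b - b ∉ P := by
      by_contra h
      push Not at h
      exact hδT (AddSubgroup.mem_inertia.2 h)
    haveI : Algebra.IsAlgebraic K L := Algebra.IsIntegral.isAlgebraic
    obtain ⟨n, ⟨s, hs⟩⟩ := IsPurelyInseparable.pow_mem (separableClosure K L) (ringExpChar (separableClosure K L))
      (Ideal.Quotient.mk P b)
    have hsepb : IsSeparable K (Ideal.Quotient.mk P (b ^ (ringExpChar (separableClosure K L)) ^ n)) := by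
      rw [map_pow, ← hs]
      exact mem_separableClosure_iff.1 s.2
    obtain ⟨w, hw, hw'⟩ := backward _ ((hasSepPoly_iff P _).2 hsepb)
    refine ⟨w, hw, by rwa [← Ideal.Quotient.eq.2 hw'], fun hmem => hb ?_⟩
    haveI : ExpChar L (ringExpChar (separableClosure K L)) :=
      expChar_of_injective_ringHom (algebraMap (separableClosure K L) L).injective _
    rw [← Ideal.Quotient.eq_zero_iff_mem] at hmem ⊢
    refine pow_eq_zero_iff (pow_ne_zero n (expChar_ne_zero L (ringExpChar (separableClosure K L)))) |>.1 ?_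
    rw [map_sub, sub_pow_expChar_pow, ← map_pow, ← map_pow, ← smul_pow',
      show Ideal.Quotient.mk P (δ • b ^ ringExpChar (separableClosure K L) ^ n) = Ideal.Quotient.mk P (δ • w) from
        Ideal.Quotient.eq.2 (by rw [← smul_sub]; exact (hδ _).1 hw'),
      Ideal.Quotient.eq.2 hw', ← map_sub]
    exact hmem
  -- make the orbit of `y` free modulo separable elements
  cases nonempty_fintype Γ
  have main : ∀ s : Finset Γ, (∀ δ ∈ s, (∀ b : B, b ∈ P ↔ δ • b ∈ P) ∧ δ ∉ P.inertia Γ) →
      ∃ w : B, (∀ γ : Γ, γ ∈ P.inertia Γ → γ • w = w) ∧ IsSeparable K (Ideal.Quotient.mk P w) ∧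
        ∀ δ ∈ s, δ • (y + w) - (y + w) ∉ P := by
    intro s
    induction s using Finset.induction_on with
    | empty =>
      exact fun _ => ⟨0, fun γ _ => smul_zero γ, by rw [map_zero, ← map_zero (algebraMap K L)]; exact isSeparable_algebraMap _, by simp⟩
    | insert δ₀ s hδ₀ ih =>
      intro hs
      obtain ⟨w, hw, hwsep, hws⟩ := ih fun δ hδ => hs δ (Finset.mem_insert_of_mem hδ)
      obtain ⟨v, hv, hvsep, hvδ⟩ := step δ₀ (hs δ₀ (Finset.mem_insert_self _ _)).1 (hs δ₀ (Finset.mem_insert_self _ _)).2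
      -- the finitely many bad multipliers
      have hbad : ∀ δ ∈ insert δ₀ s, {a : K | ∃ c : FixedPoints.subring B Γ, Ideal.Quotient.mk p c = a ∧
          δ • (y + (w + (c : B) * v)) - (y + (w + (c : B) * v)) ∈ P}.Subsingleton := by
        intro δ hδ a ⟨c, hca, hc⟩ a' ⟨c', hca', hc'⟩
        have hexp : ∀ e : FixedPoints.subring B Γ, δ • (y + (w + (e : B) * v)) - (y + (w + (e : B) * v)) =
            (δ • (y + w) - (y + w)) + (e : B) * (δ • v - v) := fun e => by
          simp only [smul_add, smul_mul', e.2 δ]; ring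
        rw [hexp] at hc hc'
        by_contra hne
        have h1 : ((c : B) - c') * (δ • v - v) ∈ P := by
          convert P.sub_mem hc hc' using 1
          ring
        rcases (Ideal.IsPrime.mem_or_mem inferInstance h1) with h2 | h2
        · exact hne (by rw [← hca, ← hca']; exact Ideal.Quotient.eq.2 h2)
        · rcases Finset.mem_insert.1 hδ with rfl | hδs
          · exact hvδ h2
          · exact hws δ hδs (by simpa using P.sub_mem hc (P.mul_mem_left (c : B) h2))
      obtain ⟨a, ha⟩ := (Set.Finite.biUnion (insert δ₀ s).finite_toSet fun δ hδ => (hbad δ hδ).finite).exists_notMem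
      obtain ⟨c, rfl⟩ := Ideal.Quotient.mk_surjective a
      refine ⟨w + (c : B) * v, fun γ hγ => by rw [smul_add, smul_mul', hw γ hγ, hv γ hγ, c.2 γ], ?_, fun δ hδ h => ?_⟩
      · rw [map_add, map_mul]
        exact Field.isSeparable_add hwsep (Field.isSeparable_mul (isSeparable_algebraMap (K := L) (Ideal.Quotient.mk p c)) hvsep)
      · exact ha (Set.mem_biUnion (x := δ) hδ ⟨c, rfl, h⟩)
  obtain ⟨w, hw, hwsep, hws⟩ := main (Finset.univ.filter fun δ => (∀ b : B, b ∈ P ↔ δ • b ∈ P) ∧ δ ∉ P.inertia Γ)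
    (fun δ hδ => (Finset.mem_filter.1 hδ).2)
  have hu : IsSeparable K (Ideal.Quotient.mk P (y + w)) := (hasSepPoly_iff P _).1
    (hasSepPoly_of_orbit_injOn Γ P (y + w) fun δ hδ h => by
      by_cases hT : δ ∈ P.inertia Γ
      · rw [smul_add, hy δ hT, hw δ hT]
      · exact absurd h (hws δ (Finset.mem_filter.2 ⟨Finset.mem_univ _, hδ, hT⟩)))
  have := Field.isSeparable_add hu (Field.isSeparable_neg hwsep)
  rwa [map_add, add_neg_cancel_right] at this

end Main

end Groth.Agent.InvThLib.Inertia
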